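import Groth.Agent.CurveDeg.Ample
import Groth.Agent.AmpleDescent.Components
import Groth.Agent.InvPow.QuasiAffine
import Groth.Agent.FibreDim.Topo

/-!
# Ampleness on one-dimensional schemes is positivity of the degree on the components
-/

universe u

open CategoryTheory CategoryTheory.Limits AlgebraicGeometry TopologicalSpace Opposite

set_option backward.isDefEq.respectTransparency false
set_option maxHeartbeats 800000

namespace Groth.Agent.CurveDeg

open InvBasic ProjUniv Groth.Agent.InvPow

variable {X : Scheme.{u}} (k : Type u) [Field k] [X.Over (Spec (CommRingCat.of k))]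
  [IsProper (X ↘ Spec (CommRingCat.of k))]

omit [X.Over (Spec (CommRingCat.of k))] [IsProper (X ↘ Spec (CommRingCat.of k))] in
theorem dim_source {Z : Scheme.{u}} (i : Z ⟶ X) [IsClosedImmersion i] :
    topologicalKrullDim Z = topologicalKrullDim (Set.range i) := by
  rw [← Set.image_univ, FibreDim.dim_image i.isClosedEmbedding.isEmbedding]
  exact (FibreDim.dim_homeo (Homeomorph.Set.univ Z)).symm

include k in
/-- Every invertible module on an integral zero-dimensional proper scheme is ample. -/
theorem isAmple_of_dim_le_zero [IsIntegral X] (h : topologicalKrullDim X ≤ 0) {L : X.Modules}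
    (hL : PicF.IsInvertible L) : CohB1.IsAmple L := by
  haveI := isNoetherian_of_proper (X := X) k
  have hd : topologicalKrullDim (Set.univ : Set X) ≤ 0 := (FibreDim.dim_homeo (Homeomorph.Set.univ X)).le.trans h
  obtain ⟨-, hcl⟩ := finite_and_closed_of_dim_le_zero isClosed_univ hd
  have hone : ∀ z : X, z = genericPoint X := fun z => by
    have h1 := specializes_iff_mem_closure.mp ((genericPoint_spec X).specializes (Set.mem_univ z))
    rwa [(hcl _ trivial).closure_eq, Set.mem_singleton_iff] at h1
  obtain ⟨U, hU, hxU, -⟩ := exists_isAffineOpen_mem_and_subset (X := X) (x := genericPoint X) (U := ⊤) trivial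
  rw [show U = ⊤ from top_unique fun y _ => by rw [hone y]; exact hxU] at hU
  haveI : IsAffine (⊤ : X.Opens).toScheme := hU
  haveI : IsAffine X := IsAffine.of_isIso (Scheme.topIso X).inv
  exact isAmple_of_quasiAffine hL

/-- A closed integral subscheme: ampleness is positivity of degree, if one-dimensional. -/
theorem isAmple_iff_of_integral_subscheme {L : X.Modules} (hL : PicF.IsInvertible L) (C : Closeds X)
    (hirr : IsIrreducible (C : Set X)) (hdim : topologicalKrullDim (C : Set X) ≤ 1)
    (J : X.IdealSheafData) (hJ : J = Scheme.IdealSheafData.vanishingIdeal C) :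
    CohB1.IsAmple ((Scheme.Modules.pullback J.subschemeι).obj L) ↔
      (topologicalKrullDim (C : Set X) = 1 → 0 < @Curv2.deg k _ J.subscheme
        ⟨J.subschemeι ≫ (X ↘ (Spec (CommRingCat.of k)))⟩ ((Scheme.Modules.pullback J.subschemeι).obj L) 1) := by
  subst hJ
  let J := Scheme.IdealSheafData.vanishingIdeal C
  letI : J.subscheme.Over (Spec (CommRingCat.of k)) := ⟨J.subschemeι ≫ (X ↘ (Spec (CommRingCat.of k)))⟩
  haveI : IsProper (J.subscheme ↘ Spec (CommRingCat.of k)) :=
    inferInstanceAs (IsProper (J.subschemeι ≫ (X ↘ (Spec (CommRingCat.of k)))))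
  haveI : IsIntegral J.subscheme := CohFinite.isIntegral_vanishingIdeal C.isClosed hirr
  have hL' := isInvertible_pullback J.subschemeι hL
  have hd : topologicalKrullDim J.subscheme = topologicalKrullDim (C : Set X) := by
    rw [dim_source J.subschemeι, show Set.range J.subschemeι = (C : Set X) from
      CohFinite.range_vanishingIdeal_subschemeι C.isClosed]
  refine ⟨fun h hC => deg_pos_of_isAmple k (hd.trans hC) h, fun h => ?_⟩
  by_cases hC : topologicalKrullDim (C : Set X) = 1
  · exact isAmple_of_deg_pos k (hd.trans hC).le hL' (h hC)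
  · refine isAmple_of_dim_le_zero k ?_ hL'
    rw [hd]
    have h1 : topologicalKrullDim (C : Set X) < ((0 : ℕ) : WithBot ℕ∞) + 1 := by simpa using lt_of_le_of_ne hdim hC
    simpa using ENat.WithBot.lt_add_one_iff.mp h1

end Groth.Agent.CurveDeg
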