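import Groth.Agent.CurveDeg.Ample
import Groth.Agent.HilbPoly.AmpleVanish
import Groth.Prelude.Def_CurvBase

/-!
# Sections of an invertible module on a curve: `h⁰ ≤ deg + 1`
-/

universe u

open CategoryTheory CategoryTheory.Limits AlgebraicGeometry TopologicalSpace Opposite

set_option backward.isDefEq.respectTransparency false
set_option maxHeartbeats 1600000

namespace Groth.Agent.CurveDeg

open InvBasic ProjUniv Groth.Agent.InvPow Groth.Agent.HilbPoly Groth.Agent.CohFinite Groth.Agent.CechCmp Groth.Agent.QCohLib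

variable {X : Scheme.{u}} (k : Type u) [Field k] [X.Over (Spec (CommRingCat.of k))]

theorem hdim_congr {M M' : X.Modules} (e : M ≅ M') (i : ℕ) : hdim k X M i = hdim k X M' i := by
  let φ := Coh.toGlobal (X ↘ Spec (CommRingCat.of k))
  let f : HMod (modRSh φ M) ⊤ i ≃ₗ[k] HMod (modRSh φ M') ⊤ i :=
    LinearEquiv.ofLinearMap (mapHMod (modHom φ e.hom) ⊤ i) (mapHMod (modHom φ e.inv) ⊤ i)
      (LinearMap.ext fun x => ((CohVanish.eMap_comp _ _ ⊤ i x).symm.trans (congrArg (fun a => CohVanish.eMap a ⊤ i x)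
        (((CohVanish.toAbF X).map_comp e.inv e.hom).symm.trans
          ((congrArg (CohVanish.toAbF X).map e.inv_hom_id).trans ((CohVanish.toAbF X).map_id M'))))).trans (CohVanish.eMap_id ⊤ i x))
      (LinearMap.ext fun x => ((CohVanish.eMap_comp _ _ ⊤ i x).symm.trans (congrArg (fun a => CohVanish.eMap a ⊤ i x)
        (((CohVanish.toAbF X).map_comp e.hom e.inv).symm.trans
          ((congrArg (CohVanish.toAbF X).map e.hom_inv_id).trans ((CohVanish.toAbF X).map_id M))))).trans (CohVanish.eMap_id ⊤ i x))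
  unfold HilbPoly.hdim
  rw [(((hhEquiv (A := k) M i).trans f).trans (hhEquiv (A := k) M' i).symm).finrank_eq]

/-- `hdim`, with the base field explicit. -/
noncomputable abbrev hdim' (M : X.Modules) (p : ℕ) : ℤ := HilbPoly.hdim k X M p

variable [IsProper (X ↘ Spec (CommRingCat.of k))]

/-- Surjectivity on sections is preserved by a twist generated at every point of the support. -/
theorem surjective_twist [IsNoetherian X] {A Q M : X.Modules} (π : A ⟶ Q) (hM : PicF.IsInvertible M)
    (hQ : IsClosed (CohB1.support Q)) (hd : topologicalKrullDim (CohB1.support Q) ≤ 0)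
    (hsurj : Function.Surjective (π.app ⊤)) (hgen : ∀ x ∈ CohB1.support Q, ∃ s : Γ(M, ⊤), x ∈ genOpen hM s) :
    Function.Surjective ((tMap π M).app ⊤) := by
  classical
  have hsupp : CohB1.support (CohB1.tensorMod Q M) = CohB1.support Q := support_tensorMod Q hM
  intro q
  have one : ∀ x : X, ∃ y : Γ(CohB1.tensorMod A M, ⊤),
      (CohB1.tensorMod Q M).presheaf.germ ⊤ x trivial ((tMap π M).app ⊤ y) =
        (CohB1.tensorMod Q M).presheaf.germ ⊤ x trivial q ∧
      ∀ z, z ≠ x → (CohB1.tensorMod Q M).presheaf.germ ⊤ z trivial ((tMap π M).app ⊤ y) = 0 := by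
    intro x
    by_cases hx : x ∈ CohB1.support Q
    · obtain ⟨s, hs⟩ := hgen x hx
      let U := genOpen hM s
      obtain ⟨w, hw⟩ := (tmul_bij Q (isBasis_genOpen hM s) (le_refl U)).2
        (res (CohB1.tensorMod Q M) (le_top : U ≤ ⊤) q)
      obtain ⟨W, hW, g, hxW, hg, hg0⟩ := exists_global_single hQ hd hx hs w
      obtain ⟨a, ha⟩ := hsurj g
      refine ⟨SecTwist.tmul A M ⊤ a s, ?_, fun z hz => ?_⟩
      · rw [tMap_tmul, ha, ← TopCat.Presheaf.germ_res_apply (CohB1.tensorMod Q M).presheaf (homOfLE (le_top : W ≤ ⊤)) x hxW,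
          ← TopCat.Presheaf.germ_res_apply (CohB1.tensorMod Q M).presheaf (homOfLE (le_top : W ≤ ⊤)) x hxW q]
        congr 1
        refine (HilbPoly.res_tmul Q M (le_top : W ≤ ⊤) g s).trans ?_
        have h1 := congrArg (res (CohB1.tensorMod Q M) hW) hw
        refine Eq.trans ?_ (h1.trans (QCohLib.map_map _ _ _ _))
        rw [HilbPoly.res_tmul, hg]
        simp only [gres, res_res]
      · rw [tMap_tmul, ha]
        obtain ⟨Y, hzY, i, i', e⟩ := TopCat.Presheaf.germ_eq Q.presheaf z (show z ∈ (⊤ : X.Opens) from trivial)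
          (show z ∈ (⊤ : X.Opens) from trivial) g 0 ((hg0 z hz).trans (map_zero _).symm)
        rw [map_zero] at e
        rw [← TopCat.Presheaf.germ_res_apply (CohB1.tensorMod Q M).presheaf (homOfLE (le_top : Y ≤ ⊤)) z hzY]
        refine (congrArg _ ((HilbPoly.res_tmul Q M (le_top : Y ≤ ⊤) g s).trans ?_)).trans (map_zero _)
        rw [show res Q (le_top : Y ≤ ⊤) g = 0 from e]
        exact ProjCoh.tmul_zero_left _ _ _ _
    · refine ⟨0, ?_, fun z _ => by rw [map_zero, map_zero]⟩
      have : Subsingleton ((CohB1.tensorMod Q M).presheaf.stalk x) := by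
        rw [← hsupp] at hx
        exact not_not.mp hx
      exact this.elim _ _
  choose y hy hy0 using one
  let T := (finite_and_closed_of_dim_le_zero hQ hd).1.toFinset
  refine ⟨∑ x ∈ T, y x, ?_⟩
  refine QCohLib.section_ext _ _ fun z hz => ?_
  rw [map_sum, map_sum]
  by_cases hzT : z ∈ T
  · rw [Finset.sum_eq_single z (fun x _ hxz => hy0 x z (Ne.symm hxz)) (fun h => absurd hzT h)]
    exact hy z
  · have : Subsingleton ((CohB1.tensorMod Q M).presheaf.stalk z) := by
      refine not_not.mp fun h => hzT ?_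
      simp only [T, Set.Finite.mem_toFinset]
      exact hsupp ▸ h
    exact this.elim _ _

variable [IsIntegral X]

/-- **`h⁰ ≤ deg + 1`**, with equality only in genus zero. -/
theorem h0_le_deg_add_one (hdim : topologicalKrullDim X = 1) (h0 : hdim' k (Coh.structureModule X) 0 = 1)
    {M : X.Modules} (hM : PicF.IsInvertible M) (hs : ∃ σ : Γ(M, ⊤), σ ≠ 0) :
    hdim' k M 0 ≤ Curv2.deg k X M 1 + 1 ∧
      (hdim' k M 0 = Curv2.deg k X M 1 + 1 → 0 < Curv2.deg k X M 1 → hdim' k (Coh.structureModule X) 1 = 0) := by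
  haveI := isNoetherian_of_proper (X := X) k
  obtain ⟨σ, hσ0⟩ := hs
  have hσ := genOpen_nonempty_of_ne_zero hM hσ0
  let G : ℕ → X.Modules := fun m => CohB1.tensorPow M m
  have hG : ∀ m, PicF.IsInvertible (G m) := fun m => isInvertible_tensorPow hM m
  have hGc : ∀ m, Coh.IsCoh (G m) := fun m => isCoh_of_isInvertible (hG m)
  have hmono : ∀ m, Mono (mulSection (G m) σ) := fun m => mono_mulSection_invertible (hG m) hM σ hσ
  let S : ℕ → ShortComplex X.Modules := fun m =>
    ShortComplex.mk (mulSection (G m) σ) (cokernel.π _) (cokernel.condition _)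
  have hS : ∀ m, (S m).ShortExact := fun m =>
    haveI := hmono m
    { exact := ShortComplex.exact_of_g_is_cokernel _ (cokernelIsCokernel _) }
  have hQ : ∀ m, Coh.IsCoh (S m).X₃ := fun m => isCoh_cokernel _ (hGc m).1 (isCoh_tensorMod (hGc m) hM)
  have hQd : ∀ m, topologicalKrullDim (CohB1.support (S m).X₃) ≤ 0 := fun m =>
    dim_compl_le_zero hdim.le hσ (QCohLib.isClosed_support (hQ m).2)
      (disjoint_support_cokernel_mulSection _ hM σ)
  have h1Q : ∀ m, Subsingleton (Coh.HH X (S m).X₃ 1) := fun m =>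
    subsingleton_HH_of_dim k (hQ m) (d := 0) (by exact_mod_cast hQd m) one_pos
  have hd1 : ∀ F : X.Modules, Coh.IsCoh F → Curv2.euler k X F = hdim' k F 0 - hdim' k F 1 := fun F hF => by
    rw [euler_eq_sum (N := 2) fun n hn => subsingleton_HH_of_dim k hF (d := 1)
      ((topologicalKrullDim_subspace_le X _).trans (by rw [hdim]; rfl)) (by omega),
      Finset.sum_range_succ, Finset.sum_range_one]
    simp [hdim', sub_eq_add_neg]
  obtain ⟨e1⟩ := nonempty_pow_one_iso hM
  have hG1 : ∀ i, hdim' k (G 1) i = hdim' k M i := fun i => hdim_congr k e1 i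
  have hO : Coh.IsCoh (Coh.structureModule X) := hGc 0
  have hdeg : Curv2.deg k X M 1 = hdim' k (G 1) 0 - hdim' k (G 1) 1 - (1 - hdim' k (Coh.structureModule X) 1) := by
    rw [Curv2.deg, hd1 _ hO, h0, ← euler_congr e1, hd1 _ (hGc 1), Nat.cast_one, one_mul]
  obtain ⟨hle, hsur0⟩ := hdim_one_le k (hS 0) (hGc 0) (hGc 1) (h1Q 0)
  have hle' : hdim' k (G 1) 1 ≤ hdim' k (Coh.structureModule X) 1 := hle
  refine ⟨by rw [← hG1, hdeg]; omega, fun heq hpos => ?_⟩
  have h11 : hdim' k (G 1) 1 = hdim' k (Coh.structureModule X) 1 := by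
    rw [← hG1, hdeg] at heq; omega
  have hgen : ∀ x, x ∉ genOpen hM σ → ∃ s : Γ(M, ⊤), x ∈ genOpen hM s := fun x hx => by
    haveI := hmono 0
    obtain ⟨s, hs⟩ := exists_gen_of_surjective k hM σ 0 (hQd 0) (hsur0 h11) hx
    obtain ⟨V, hxV, hV⟩ := exists_nhd_of_gen (hG 1) hs
    refine ⟨e1.hom.app ⊤ s, gen_of_isBasis (U := V) ?_ hxV⟩
    have := InvPow.isBasis_of_iso e1 hV
    rwa [show e1.hom.app V (gres (G 1) s V) = gres M (e1.hom.app ⊤ s) V from QCohLib.app_map e1.hom le_top s] at this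
  have hall : ∀ m, hdim' k (G (m + 1)) 1 = hdim' k (G m) 1 ∧ Function.Surjective ((S m).g.app ⊤) := fun m => by
    induction m with
    | zero => exact ⟨h11, hsur0 h11⟩
    | succ m ih =>
      have hsub : Disjoint (CohB1.support (S m).X₃) (genOpen hM σ) := disjoint_support_cokernel_mulSection _ hM σ
      have hT := surjective_twist (S m).g hM (QCohLib.isClosed_support (hQ m).2) (hQd m) ih.2
        fun x hx => hgen x (Set.disjoint_left.mp hsub hx)
      have heq1 : hdim' k (G (m + 2)) 1 = hdim' k (G (m + 1)) 1 :=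
        hdim_one_eq_of_surjective k (S := tSC (S m) hM) (shortExact_tSC (hS m) hM) (hGc (m + 1)) (hGc (m + 2))
          (subsingleton_HH_of_dim k (isCoh_tensorMod (hQ m) hM) (d := 0)
            (by rw [support_tensorMod _ hM]; exact_mod_cast hQd m) one_pos) hT
      exact ⟨heq1, (hdim_one_le k (hS (m + 1)) (hGc (m + 1)) (hGc (m + 2)) (h1Q (m + 1))).2 heq1⟩
  have hconst : ∀ m, hdim' k (G m) 1 = hdim' k (Coh.structureModule X) 1 := fun m => by
    induction m with
    | zero => rfl
    | succ m ih => rw [(hall m).1, ih]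
  obtain ⟨n, hn⟩ := exists_vanishing_ample (X ↘ Spec (CommRingCat.of k)) (isAmple_of_deg_pos k hdim.le hM hpos) _ hO
  obtain ⟨c⟩ := ProjTwist.nonempty_tensorMod_comm (Coh.structureModule X) (G n)
  rw [← hconst n, hdim', ← hdim_congr k (c ≪≫ SecTwist.unitorR (G n)) 1]
  exact hdim_eq_zero (hn n le_rfl 1 one_pos)

end Groth.Agent.CurveDeg
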