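import Groth.Agent.CurveDeg.Basic
import Groth.Agent.InvPow.VeryAmpleTwist
import Groth.Agent.InvPow.Locus
import Groth.Agent.ProjUniv.Exists
import Groth.Agent.ProjTwist.Ample
import Groth.Agent.ProjCoh.GlobalSections
import Mathlib.AlgebraicGeometry.Morphisms.QuasiFinite

/-!
# Ampleness on curves is positivity of the degree
-/

universe u

open CategoryTheory CategoryTheory.Limits AlgebraicGeometry TopologicalSpace Opposite

set_option backward.isDefEq.respectTransparency false
set_option maxHeartbeats 1600000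

namespace Groth.Agent.CurveDeg

open InvBasic ProjUniv Groth.Agent.InvPow Groth.Agent.HilbPoly Groth.Agent.CohFinite Groth.Agent.CechCmp Groth.Agent.QCohLib

variable {X : Scheme.{u}} (k : Type u) [Field k] [X.Over (Spec (CommRingCat.of k))]
  [IsProper (X ↘ Spec (CommRingCat.of k))]

include k

theorem isNoetherian_of_proper : IsNoetherian X := by
  have : CompactSpace X := QuasiCompact.compactSpace_of_compactSpace (X ↘ Spec (CommRingCat.of k))
  have : IsLocallyNoetherian X := LocallyOfFiniteType.isLocallyNoetherian (X ↘ Spec (CommRingCat.of k))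
  exact ⟨⟩

/-- An everywhere generating section trivialises, so the degree is zero. -/
theorem deg_eq_zero_of_genOpen_eq_top [IsIntegral X] {L : X.Modules} (hL : PicF.IsInvertible L) (t : Γ(L, ⊤))
    (h : genOpen hL t = ⊤) : Curv2.deg k X L 1 = 0 := by
  haveI := isNoetherian_of_proper (X := X) k
  haveI := mono_mulSection_of_isIntegral hL t (by rw [h]; exact ⟨Nonempty.some inferInstance, trivial⟩)
  rw [deg_eq_euler_cokernel k hL t]
  set Q := cokernel (mulSection (Coh.structureModule X) t) with hQdef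
  have hO : Coh.IsCoh (Coh.structureModule X) := isCoh_of_isInvertible (HilbPoly.isInvertible_structureModule X)
  have hQ : Coh.IsCoh Q := isCoh_cokernel _ hO.1 (isCoh_tensorMod hO hL)
  have hs : CohB1.support Q = ∅ := by
    have := disjoint_support_cokernel_mulSection (Coh.structureModule X) hL t
    rw [h] at this
    exact Set.eq_empty_of_forall_notMem fun y hy => Set.disjoint_left.mp this hy trivial
  have hd : topologicalKrullDim (CohB1.support Q) ≤ ((0 : ℕ) : WithBot ℕ∞) := by
    rw [hs]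
    exact (Order.krullDim_eq_bot_iff.mpr ⟨fun C => C.2.nonempty.elim fun z _ => z.2.elim⟩).trans_le bot_le
  rw [euler_eq_sum (N := 0) fun n _ => ?_, Finset.sum_range_zero]
  rcases n with _ | n
  · have : Subsingleton Γ(Q, ⊤) := subsingleton_of_forall_eq 0 fun a => QCohLib.section_ext _ _ fun z _ => by
      have hz : Subsingleton (Q.presheaf.stalk z) := by
        by_contra hc
        exact Set.eq_empty_iff_forall_notMem.mp hs z hc
      exact hz.elim _ _
    let E : Coh.HH X Q 0 ≃+ Γ(Q, ⊤) :=
      (CohVanish.hEquiv (X := CohVanish.sp X) (Coh.toAb Q) 0).trans (CohVanish.eu0 ⊤ _)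
    exact E.injective.subsingleton
  · exact subsingleton_HH_of_dim k hQ hd n.succ_pos

omit [IsProper (X ↘ Spec (CommRingCat.of k))] in
theorem hdim_nonneg (M : X.Modules) (p : ℕ) : 0 ≤ hdim k X M p := by
  simp [hdim]

/-- On curves, a large Euler characteristic gives a section. -/
theorem exists_section_of_euler_pos (hdim : topologicalKrullDim X ≤ 1) {L : X.Modules} (hL : Coh.IsCoh L)
    (h : 0 < Curv2.euler k X L) : ∃ s : Γ(L, ⊤), s ≠ 0 := by
  have hd : topologicalKrullDim (CohB1.support L) ≤ ((1 : ℕ) : WithBot ℕ∞) :=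
    (topologicalKrullDim_subspace_le X _).trans (by exact_mod_cast hdim)
  rw [euler_eq_sum (N := 2) fun n hn => subsingleton_HH_of_dim k hL hd (by omega), Finset.sum_range_succ,
    Finset.sum_range_one] at h
  simp only [pow_zero, one_mul, pow_one, neg_mul] at h
  have h0 : 0 < HilbPoly.hdim k X L 0 := by linarith [hdim_nonneg k L 1]
  simp only [HilbPoly.hdim, Nat.cast_pos] at h0
  have := finite_HH (k := k) hL 0
  obtain ⟨a, ha⟩ := (Module.finrank_pos_iff_exists_ne_zero (R := k)).mp h0
  let E : Coh.HH X L 0 ≃+ Γ(L, ⊤) :=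
    (CohVanish.hEquiv (X := CohVanish.sp X) (Coh.toAb L) 0).trans (CohVanish.eu0 ⊤ _)
  exact ⟨E a, fun h => ha (E.injective (h.trans (map_zero E).symm))⟩

/-- A vanishing `H¹` of the quotient: `h¹` drops, and sections lift if it does not drop. -/
theorem hdim_one_le {S : ShortComplex X.Modules} (hS : S.ShortExact) (h₁ : Coh.IsCoh S.X₁) (h₂ : Coh.IsCoh S.X₂)
    (h₃ : Subsingleton (Coh.HH X S.X₃ 1)) : hdim k X S.X₂ 1 ≤ hdim k X S.X₁ 1 ∧
      (hdim k X S.X₂ 1 = hdim k X S.X₁ 1 → Function.Surjective (S.g.app ⊤)) := by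
  let φ := Coh.toGlobal (X ↘ Spec (CommRingCat.of k))
  let T := modSES φ S hS
  let f := mapHMod T.f ⊤ 1
  have fin : ∀ {M : X.Modules}, Coh.IsCoh M → Module.Finite k (HMod (modRSh φ M) ⊤ 1) :=
    fun hM => allFin_of_isProper (X ↘ Spec (CommRingCat.of k)) _ hM 1
  have hd : ∀ M : X.Modules, hdim k X M 1 = Module.finrank k (HMod (modRSh φ M) ⊤ 1) := fun M => by
    unfold HilbPoly.hdim
    rw [(hhEquiv M 1).finrank_eq]
  have : Module.Finite k (HMod T.X₁ ⊤ 1) := fin h₁
  have : Module.Finite k (HMod T.X₂ ⊤ 1) := fin h₂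
  have hsub : Subsingleton (HMod T.X₃ ⊤ 1) := (hhEquiv (A := k) S.X₃ 1).symm.injective.subsingleton
  have hf : Function.Surjective f := fun x =>
    (CohVanish.eMap_g_eq_zero_iff (S := T.sc) T.shortExact ⊤ 1 x).1 (hsub.elim _ _)
  rw [hd, hd]
  refine ⟨by exact_mod_cast f.finrank_le_finrank_of_surjective hf, fun he => ?_⟩
  have hinj : Function.Injective f :=
    (LinearMap.injective_iff_surjective_of_finrank_eq_finrank (by exact_mod_cast he.symm)).mpr hf
  intro q
  let q' := (CohVanish.eu0 (⊤ : Opens (CohVanish.sp X)) T.sc.X₃).symm q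
  obtain ⟨t, ht⟩ := (CohVanish.eDelta_zero_eq_zero T.shortExact ⊤ q').1 (hinj (by
    rw [map_zero]
    exact (CohVanish.eMap_f_eq_zero_iff (S := T.sc) T.shortExact ⊤ 0 _).2 ⟨q', rfl⟩))
  exact ⟨t, ht.trans (AddEquiv.apply_symm_apply _ _)⟩

omit k in
/-- Multiplication by a generically non-zero section is injective on an invertible module. -/
theorem mono_mulSection_invertible [IsIntegral X] {N M : X.Modules} (hN : PicF.IsInvertible N)
    (hM : PicF.IsInvertible M) (σ : Γ(M, ⊤)) (hσ : (genOpen hM σ : Set X).Nonempty) : Mono (mulSection N σ) := by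
  refine mono_mulSection _ hM σ fun W => ?_
  intro a b hab
  refine QCohLib.section_ext _ _ fun z hz => ?_
  obtain ⟨V, hzV, β, hβ⟩ := exists_isBasis hN z
  let W' : X.Opens := W ⊓ V
  have hW' : (W' : Set X).Nonempty := ⟨z, hz, hzV⟩
  obtain ⟨y, hy⟩ := nonempty_preirreducible_inter W'.2 (genOpen hM σ).2 hW' hσ
  have : Nonempty W' := ⟨⟨z, hz, hzV⟩⟩
  have : Nonempty (W' ⊓ genOpen hM σ : X.Opens) := ⟨⟨y, hy⟩⟩
  have hinj : Function.Injective (resR (inf_le_left : W' ⊓ genOpen hM σ ≤ W')) :=
    map_injective_of_isIntegral X (homOfLE (inf_le_left : W' ⊓ genOpen hM σ ≤ W'))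
  have hb : IsBasis N (res N (inf_le_right : W' ≤ V) β) := isBasis_res hβ _
  obtain ⟨c, hc⟩ := exists_coef hb (res N (inf_le_left : W' ≤ W) a)
  obtain ⟨d, hd⟩ := exists_coef hb (res N (inf_le_left : W' ≤ W) b)
  have hle : W' ⊓ genOpen hM σ ≤ W ⊓ genOpen hM σ := inf_le_inf_right _ inf_le_left
  have e1 : res N (inf_le_left : W' ⊓ genOpen hM σ ≤ W') (res N (inf_le_left : W' ≤ W) a) =
      res N (inf_le_left : W' ⊓ genOpen hM σ ≤ W') (res N (inf_le_left : W' ≤ W) b) := by
    have := congrArg (res N hle) hab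
    simp only [res_res] at this ⊢
    exact this
  rw [hc, hd, res_smul, res_smul] at e1
  have e2 : c = d := hinj ((isBasis_res hb inf_le_left _ le_rfl).1 (by
    simpa only [QCohLib.map_self] using e1))
  have e3 : res N (inf_le_left : W' ≤ W) a = res N (inf_le_left : W' ≤ W) b := by rw [hc, hd, e2]
  have e4 := congrArg (N.presheaf.germ W' z ⟨hz, hzV⟩) e3
  exact (TopCat.Presheaf.germ_res_apply N.presheaf (homOfLE (inf_le_left : W' ≤ W)) z ⟨hz, hzV⟩ a).symm.trans
    (e4.trans (TopCat.Presheaf.germ_res_apply N.presheaf (homOfLE (inf_le_left : W' ≤ W)) z ⟨hz, hzV⟩ b))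

/-- Where the section vanishes, lifting from the quotient gives a generating section. -/
theorem exists_gen_of_surjective {M : X.Modules} (hM : PicF.IsInvertible M) (σ : Γ(M, ⊤)) (m : ℕ)
    [Mono (mulSection (CohB1.tensorPow M m) σ)]
    (hQd : topologicalKrullDim (CohB1.support (cokernel (mulSection (CohB1.tensorPow M m) σ))) ≤ 0)
    (hsurj : Function.Surjective ((cokernel.π (mulSection (CohB1.tensorPow M m) σ)).app ⊤))
    {x : X} (hx : x ∉ genOpen hM σ) :
    ∃ s : Γ(CohB1.tensorPow M (m + 1), ⊤), x ∈ genOpen (isInvertible_tensorPow hM (m + 1)) s := by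
  haveI := isNoetherian_of_proper (X := X) k
  let G : ℕ → X.Modules := fun m => CohB1.tensorPow M m
  have hG : ∀ m, PicF.IsInvertible (G m) := fun m => isInvertible_tensorPow hM m
  have hGc : ∀ m, Coh.IsCoh (G m) := fun m => isCoh_of_isInvertible (hG m)
  let S : ShortComplex X.Modules :=
    ShortComplex.mk (mulSection (G m) σ) (cokernel.π _) (cokernel.condition _)
  have hS : S.ShortExact := { exact := ShortComplex.exact_of_g_is_cokernel _ (cokernelIsCokernel _) }
  have hQ : Coh.IsCoh S.X₃ := isCoh_cokernel _ (hGc m).1 (isCoh_tensorMod (hGc m) hM)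
  have hxQ : x ∈ CohB1.support S.X₃ := by
    refine mem_support_cokernel_mulSection (hGc m) hM σ ?_ hx
    have : ∀ j, CohB1.support (G j) = Set.univ := fun j => by
      induction j with
      | zero => exact support_structureModule
      | succ j ih => exact (support_tensorMod _ hM).trans ih
    rw [this m]
    trivial
  obtain ⟨V, hxV, b, hb⟩ := exists_isBasis (hG (m + 1)) x
  obtain ⟨W, hWV, g, hxW, hg⟩ :=
    exists_global_eq_near (QCohLib.isClosed_support hQ.2) hQd hxQ hxV (S.g.app V b)
  obtain ⟨s, hs⟩ := hsurj g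
  refine ⟨s, ?_⟩
  have hker : S.g.app W (gres (G (m + 1)) s W - res (G (m + 1)) hWV b) = 0 := by
    rw [map_sub, sub_eq_zero]
    refine (QCohLib.app_map S.g le_top s).trans ?_
    rw [hs]
    exact hg.trans (QCohLib.app_map S.g hWV b).symm
  obtain ⟨c, hc⟩ := (QCohLib.sections_exact_of_shortExact hS W).2 _ hker
  obtain ⟨VM, hxVM, β, hβ⟩ := exists_isBasis hM x
  let W' : X.Opens := W ⊓ VM
  obtain ⟨a, ha⟩ := exists_coef (isBasis_res hβ (inf_le_right : W' ≤ VM)) (gres M σ W')
  have hau : ¬ IsUnit (X.presheaf.germ W' x ⟨hxW, hxVM⟩ a) := fun hu => hx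
    ((genOpen_inf_eq_basicOpen hM (isBasis_res hβ (inf_le_right : W' ≤ VM)) ha).ge
      ((X.mem_basicOpen a x ⟨hxW, hxVM⟩).mpr hu)).1
  have hb' : IsBasis (G (m + 1)) (res (G (m + 1)) ((inf_le_left : W' ≤ W).trans hWV) b) := isBasis_res hb _
  obtain ⟨d, hd⟩ := exists_coef hb'
    (SecTwist.tmul (G m) M W' (res (G m) (inf_le_left : W' ≤ W) c) (res M (inf_le_right : W' ≤ VM) β))
  have e : gres (G (m + 1)) s W' = (1 + a * d) • res (G (m + 1)) ((inf_le_left : W' ≤ W).trans hWV) b := by
    have h1 : SecTwist.tmul (G m) M W' (res (G m) (inf_le_left : W' ≤ W) c) (gres M σ W') =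
        gres (G (m + 1)) s W' - res (G (m + 1)) ((inf_le_left : W' ≤ W).trans hWV) b := by
      have h2 : res (G (m + 1)) (inf_le_left : W' ≤ W) ((mulSection (G m) σ).app W c) =
          res (G (m + 1)) (inf_le_left : W' ≤ W) (gres (G (m + 1)) s W - res (G (m + 1)) hWV b) :=
        congrArg _ hc
      have h3 : res (G (m + 1)) (inf_le_left : W' ≤ W) (gres (G (m + 1)) s W - res (G (m + 1)) hWV b) =
          gres (G (m + 1)) s W' - res (G (m + 1)) ((inf_le_left : W' ≤ W).trans hWV) b :=
        ((map_sub _ _ _).trans (congrArg₂ _ (res_gres _ _ _) (res_res _ _ _ _)))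
      refine Eq.trans ?_ (h2.trans h3)
      exact ((congrArg _ (mulSection_app (G m) σ W c)).trans
        ((HilbPoly.res_tmul _ _ _ _ _).trans (by rw [res_gres]))).symm
    rw [ha, ProjCoh.tmul_smul_right, ProjCoh.tmul_smul_left, hd] at h1
    rw [add_smul, one_smul, mul_smul]
    exact (sub_eq_iff_eq_add'.mp h1.symm)
  refine ((genOpen_inf_eq_basicOpen (hG (m + 1)) hb' e).ge ((X.mem_basicOpen (1 + a * d) x (show x ∈ W' from ⟨hxW, hxVM⟩)).mpr ?_)).1
  rw [map_add, map_one, map_mul]
  by_contra hnu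
  have hmem : X.presheaf.germ W' x ⟨hxW, hxVM⟩ a * X.presheaf.germ W' x ⟨hxW, hxVM⟩ d ∈
      IsLocalRing.maximalIdeal (X.presheaf.stalk x) := Ideal.mul_mem_right _ _ hau
  have h3 := Submodule.sub_mem _ ((IsLocalRing.mem_maximalIdeal _).mpr hnu) hmem
  rw [add_sub_cancel_right] at h3
  exact (IsLocalRing.mem_maximalIdeal _).mp h3 isUnit_one

/-- With a surjection on sections `h¹` does not drop. -/
theorem hdim_one_eq_of_surjective {S : ShortComplex X.Modules} (hS : S.ShortExact) (h₁ : Coh.IsCoh S.X₁)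
    (h₂ : Coh.IsCoh S.X₂) (h₃ : Subsingleton (Coh.HH X S.X₃ 1)) (hsurj : Function.Surjective (S.g.app ⊤)) :
    hdim k X S.X₂ 1 = hdim k X S.X₁ 1 := by
  let φ := Coh.toGlobal (X ↘ Spec (CommRingCat.of k))
  let T := modSES φ S hS
  let f := mapHMod T.f ⊤ 1
  have hd : ∀ M : X.Modules, hdim k X M 1 = Module.finrank k (HMod (modRSh φ M) ⊤ 1) := fun M => by
    unfold HilbPoly.hdim
    rw [(hhEquiv M 1).finrank_eq]
  have hsub : Subsingleton (HMod T.X₃ ⊤ 1) := (hhEquiv (A := k) S.X₃ 1).symm.injective.subsingleton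
  have hf : Function.Surjective f := fun x =>
    (CohVanish.eMap_g_eq_zero_iff (S := T.sc) T.shortExact ⊤ 1 x).1 (hsub.elim _ _)
  have hinj : Function.Injective f := by
    rw [injective_iff_map_eq_zero]
    intro x hx
    obtain ⟨q, rfl⟩ := (CohVanish.eMap_f_eq_zero_iff (S := T.sc) T.shortExact ⊤ 0 x).1 hx
    exact (CohVanish.eDelta_zero_eq_zero T.shortExact ⊤ q).2 (hsurj _)
  rw [hd, hd]
  exact congrArg Nat.cast (LinearEquiv.ofBijective f ⟨hinj, hf⟩).finrank_eq.symm

/-- A section with non-empty non-vanishing locus: some power is generated by global sections. -/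
theorem exists_gen_power [IsIntegral X] (hdim : topologicalKrullDim X ≤ 1) {M : X.Modules} (hM : PicF.IsInvertible M)
    (σ : Γ(M, ⊤)) (hσ : (genOpen hM σ : Set X).Nonempty) :
    ∃ m : ℕ, ∀ x : X, ∃ s : Γ(CohB1.tensorPow M (m + 1), ⊤), x ∈ genOpen (isInvertible_tensorPow hM (m + 1)) s := by
  haveI := isNoetherian_of_proper (X := X) k
  let G : ℕ → X.Modules := fun m => CohB1.tensorPow M m
  have hG : ∀ m, PicF.IsInvertible (G m) := fun m => isInvertible_tensorPow hM m
  have hGc : ∀ m, Coh.IsCoh (G m) := fun m => isCoh_of_isInvertible (hG m)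
  have hmono : ∀ m, Mono (mulSection (G m) σ) := fun m => mono_mulSection_invertible (hG m) hM σ hσ
  let S : ℕ → ShortComplex X.Modules := fun m =>
    ShortComplex.mk (mulSection (G m) σ) (cokernel.π _) (cokernel.condition _)
  have hS : ∀ m, (S m).ShortExact := fun m =>
    haveI := hmono m
    { exact := ShortComplex.exact_of_g_is_cokernel _ (cokernelIsCokernel _) }
  have hQ : ∀ m, Coh.IsCoh (S m).X₃ := fun m => isCoh_cokernel _ (hGc m).1 (isCoh_tensorMod (hGc m) hM)
  have hQd : ∀ m, topologicalKrullDim (CohB1.support (S m).X₃) ≤ 0 := fun m =>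
    dim_compl_le_zero hdim hσ (QCohLib.isClosed_support (hQ m).2)
      (disjoint_support_cokernel_mulSection _ hM σ)
  have hstep := fun m => hdim_one_le k (hS m) (hGc m) (hGc (m + 1))
    (subsingleton_HH_of_dim k (hQ m) (d := 0) (by exact_mod_cast hQd m) one_pos)
  obtain ⟨m, hm⟩ : ∃ m, HilbPoly.hdim k X (G (m + 1)) 1 = HilbPoly.hdim k X (G m) 1 := by
    by_contra hc
    push Not at hc
    have hlt : ∀ m : ℕ, HilbPoly.hdim k X (G m) 1 ≤ HilbPoly.hdim k X (G 0) 1 - m := fun m => by
      induction m with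
      | zero => simp
      | succ m ih =>
        have h1 : HilbPoly.hdim k X (G (m + 1)) 1 ≤ HilbPoly.hdim k X (G m) 1 := (hstep m).1
        have h2 := lt_of_le_of_ne h1 (hc m)
        push_cast
        omega
    have := hlt ((HilbPoly.hdim k X (G 0) 1).toNat + 1)
    have := hdim_nonneg k (G ((HilbPoly.hdim k X (G 0) 1).toNat + 1)) 1
    omega
  refine ⟨m, fun x => ?_⟩
  have hsurj := (hstep m).2 hm
  by_cases hx : x ∈ genOpen hM σ
  · have : ∀ j : ℕ, ∃ τ : Γ(G j, ⊤), x ∈ genOpen (hG j) τ := fun j => by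
      induction j with
      | zero =>
        refine ⟨(1 : Γ(X, ⊤)), ?_⟩
        refine gen_of_isBasis (L := Coh.structureModule X) (U := ⊤) ?_ (Set.mem_univ x)
        intro W hW
        have e : (fun r : Γ(X, W) => r • ((Coh.structureModule X).presheaf.map (homOfLE hW).op
            (gres (Coh.structureModule X) (1 : Γ(X, ⊤)) ⊤) : Γ(Coh.structureModule X, W))) =
            fun r : Γ(X, W) => r := funext fun r => by
          show r * (X.presheaf.map (homOfLE hW).op (X.presheaf.map (homOfLE le_rfl).op (1 : Γ(X, ⊤))) : Γ(X, W)) = r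
          rw [map_one, map_one, mul_one]
        rw [e]
        exact Function.bijective_id
      | succ j ih =>
        obtain ⟨τ, hτ⟩ := ih
        refine ⟨SecTwist.tmul (G j) M ⊤ τ σ, ?_⟩
        have := (genOpen_tmul (hG j) hM τ σ).ge ⟨hτ, hx⟩
        exact this
    exact this (m + 1)
  · haveI := hmono m
    exact exists_gen_of_surjective k hM σ m (hQd m) hsurj hx

/-- A morphism from an integral curve that is not constant is finite. -/
theorem finite_preimage_of_not_constant [IrreducibleSpace X] (hdim : topologicalKrullDim X ≤ 1) {Y : Scheme.{u}}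
    (r : X ⟶ Y) (hr : IsClosedMap r) (hne : ¬ ∃ y, ∀ x, r x = y) (y : Y) : (r ⁻¹' {y}).Finite := by
  haveI := isNoetherian_of_proper (X := X) k
  let η := genericPoint X
  have hη : ∀ x : X, η ⤳ x := fun x => (genericPoint_spec X).specializes (Set.mem_univ x)
  have hproper : ∀ S : Set X, IsClosed S → S ≠ Set.univ → S.Finite ∧ ∀ x ∈ S, IsClosed ({x} : Set X) := fun S hS hSu => by
    refine finite_and_closed_of_dim_le_zero hS (dim_compl_le_zero hdim (U := ⟨Sᶜ, hS.isOpen_compl⟩) ?_ hS ?_)
    · exact Set.nonempty_compl.mpr hSu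
    · exact disjoint_compl_right
  by_cases hall : ∀ x, r x = y → x = η
  · exact (Set.finite_singleton η).subset hall
  · push Not at hall
    obtain ⟨x, hxy, hxη⟩ := hall
    have hxc : IsClosed ({x} : Set X) := by
      have hne' : closure ({x} : Set X) ≠ Set.univ := fun h => hxη
        ((specializes_iff_mem_closure.mpr (h ▸ Set.mem_univ η)).antisymm (hη x)).eq
      exact (hproper _ isClosed_closure hne').2 x (subset_closure rfl)
    have hyc : IsClosed ({y} : Set Y) := by
      have := hr _ hxc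
      rwa [Set.image_singleton, hxy] at this
    have hF : IsClosed (r ⁻¹' {y}) := hyc.preimage r.continuous
    refine (hproper _ hF fun h => hne ⟨y, fun z => ?_⟩).1
    exact (h ▸ Set.mem_univ z : z ∈ r ⁻¹' {y})

/-- Positive degree implies ampleness. -/
theorem isAmple_of_deg_pos [IsIntegral X] (hdim : topologicalKrullDim X ≤ 1) {L : X.Modules}
    (hL : PicF.IsInvertible L) (hd : 0 < Curv2.deg k X L 1) : CohB1.IsAmple L := by
  haveI := isNoetherian_of_proper (X := X) k
  let N : ℕ := (Curv2.euler k X (Coh.structureModule X)).natAbs + 1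
  have hdN := deg_tensorPow k hdim hL N
  have hposN : 0 < Curv2.deg k X (CohB1.tensorPow L N) 1 := by
    rw [hdN]
    positivity
  have heul : 0 < Curv2.euler k X (CohB1.tensorPow L N) := by
    have h1 := hdN
    simp only [Curv2.deg, Nat.cast_one, one_mul] at h1 hd
    have h2 : (N : ℤ) * 1 ≤ (N : ℤ) * (Curv2.euler k X L - Curv2.euler k X (Coh.structureModule X)) :=
      mul_le_mul_of_nonneg_left (by omega) (by positivity)
    have h3 : (N : ℤ) = |Curv2.euler k X (Coh.structureModule X)| + 1 := by simp [N]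
    linarith [neg_abs_le (Curv2.euler k X (Coh.structureModule X))]
  have hM := isInvertible_tensorPow hL N
  obtain ⟨σ, hσ⟩ := exists_section_of_euler_pos k hdim (isCoh_of_isInvertible hM) heul
  obtain ⟨m, hm⟩ := exists_gen_power k hdim hM σ (genOpen_nonempty_of_ne_zero hM hσ)
  have hM' := isInvertible_tensorPow hM (m + 1)
  have hpos' : 0 < Curv2.deg k X (CohB1.tensorPow (CohB1.tensorPow L N) (m + 1)) 1 := by
    rw [deg_tensorPow k hdim hM (m + 1)]
    positivity
  choose s hs using hm
  obtain ⟨t, ht⟩ := isCompact_univ.elim_finite_subcover (fun x : X => (genOpen hM' (s x) : Set X))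
    (fun x => (genOpen hM' (s x)).2) (fun x _ => Set.mem_iUnion.mpr ⟨x, hs x⟩)
  have htne : t.Nonempty := by
    obtain ⟨x, hx, -⟩ := Set.mem_iUnion₂.mp (ht (Set.mem_univ (Nonempty.some (inferInstance : Nonempty X))))
    exact ⟨x, hx⟩
  obtain ⟨n, hn⟩ := Nat.exists_eq_succ_of_ne_zero htne.card_pos.ne'
  let e : Fin (n + 1) ≃ t := (finCongr hn.symm).trans t.equivFin.symm
  let v : Fin (n + 1) → ProjUP.Γm (CohB1.tensorPow (CohB1.tensorPow L N) (m + 1)) := fun i => s (e i).1
  have hv : ProjUP.GeneratedBy _ v := fun x => by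
    obtain ⟨z, hz, hxz⟩ := Set.mem_iUnion₂.mp (ht (Set.mem_univ x))
    refine eq_top_iff.mpr fun y _ => ?_
    obtain ⟨c, hc⟩ := (hxz : Gen _ (s z) x) y
    rw [← hc]
    exact Submodule.smul_mem _ _ (Submodule.subset_span ⟨e.symm ⟨z, hz⟩, by simp [v]⟩)
  obtain ⟨r, hrq, τ, -⟩ := ProjUniv.exists_hom (X ↘ Spec (CommRingCat.of k)) hM' v hv
  haveI : IsProper (r ≫ CohB1.ProjSpace.toSpec n k) := hrq ▸ ‹_›
  haveI : IsProper (CohB1.ProjSpace.toSpec n k) := isProper_toSpec n k
  haveI : IsProper r := IsProper.of_comp r (CohB1.ProjSpace.toSpec n k)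
  have hnc : ¬ ∃ y, ∀ x, r x = y := by
    rintro ⟨y, hy⟩
    obtain ⟨i, hi⟩ := exists_mem_D y
    have htop : genOpen (isInvertible_P1 r) (pco r i) = ⊤ := top_unique fun x _ =>
      (gen_pco_iff r i x).mpr (show r x ∈ D n k i by rw [hy x]; exact hi)
    have h0 := deg_eq_zero_of_genOpen_eq_top k (isInvertible_P1 r) _ htop
    simp only [Curv2.deg] at h0 hpos'
    rw [euler_congr τ] at h0
    omega
  haveI : LocallyQuasiFinite r := LocallyQuasiFinite.of_finite_preimage_singleton r
    (finite_preimage_of_not_constant k hdim r r.isClosedMap hnc)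
  haveI : IsFinite r := IsFinite.of_isProper_of_locallyQuasiFinite r
  haveI : CompactSpace (Proj (CohB1.polyGrading n k)) :=
    QuasiCompact.compactSpace_of_compactSpace (CohB1.ProjSpace.toSpec n k)
  have hA : CohB1.IsAmple (O1 n k) := by
    have := ProjTwist.isAmple_twist (CohB1.polyGrading n k) one_pos fun y => by
      obtain ⟨i, hi⟩ := exists_mem_D y
      exact ⟨MvPolynomial.X i, ProjPoint.X_mem i, hi⟩
    exact this
  have hP := InvPow.isAmple_pullback hA r fun y => by
    obtain ⟨U, hU, hyU, -⟩ := exists_isAffineOpen_mem_and_subset (X := Proj (CohB1.polyGrading n k)) (x := r y) (U := ⊤) trivial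
    exact ⟨U, hyU, hU.preimage r⟩
  exact InvPow.isAmple_of_pow hL (Nat.succ_pos _)
    (InvPow.isAmple_of_pow hM (Nat.succ_pos m) (InvPow.isAmple_of_iso τ hP))

/-- Ampleness implies positive degree on a curve. -/
theorem deg_pos_of_isAmple [IsIntegral X] (hdim : topologicalKrullDim X = 1) {L : X.Modules}
    (hA : CohB1.IsAmple L) : 0 < Curv2.deg k X L 1 := by
  haveI := isNoetherian_of_proper (X := X) k
  obtain ⟨j, s, hx, haff⟩ := hA.2.2 (Nonempty.some (inferInstance : Nonempty X))
  obtain ⟨σ, rfl⟩ := exists_globalHom_eq s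
  rw [genLocus_globalHom (isInvertible_tensorPow hA.1 _) σ] at hx haff
  obtain ⟨y, hy⟩ : ∃ y, y ∉ genOpen (isInvertible_tensorPow hA.1 (j + 1)) σ := by
    by_contra hc
    push Not at hc
    rw [show genOpen (isInvertible_tensorPow hA.1 (j + 1)) σ = ⊤ from top_unique fun z _ => hc z] at haff
    have : IsAffine (⊤ : X.Opens).toScheme := haff
    have : IsAffine X := IsAffine.of_isIso (Scheme.topIso X).inv
    let f := X ↘ Spec (CommRingCat.of k)
    have : IsFinite f := IsFinite.iff_isProper_and_isAffineHom.mpr ⟨inferInstance, inferInstance⟩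
    have : Finite X := by
      rw [← Set.finite_univ_iff]
      have h : (Set.univ : Set X) = f ⁻¹' {f (genericPoint X)} :=
        (Set.eq_univ_of_forall fun y => Subsingleton.elim _ _).symm
      rw [h]
      exact f.finite_preimage_singleton _
    have : JacobsonSpace X := LocallyOfFiniteType.jacobsonSpace f
    have : DiscreteTopology X := inferInstance
    have hone : ∀ z : X, z = genericPoint X := fun z => by
      have h := specializes_iff_mem_closure.mp ((genericPoint_spec X).specializes (Set.mem_univ z))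
      rwa [(isClosed_discrete _).closure_eq, Set.mem_singleton_iff] at h
    have : Subsingleton (IrreducibleCloseds X) := ⟨fun a b => by
      have : Subsingleton X := ⟨fun p q => (hone p).trans (hone q).symm⟩
      refine IrreducibleCloseds.ext ?_
      rw [a.isIrreducible.nonempty.eq_univ, b.isIrreducible.nonempty.eq_univ]⟩
    have h0 : topologicalKrullDim X ≤ 0 := Order.krullDim_nonpos_of_subsingleton
    rw [hdim] at h0
    exact absurd h0 (by simp)
  have hpos := deg_pos_of_section k hdim.le (isInvertible_tensorPow hA.1 (j + 1)) σ ⟨_, hx⟩ hy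
  rw [deg_tensorPow k hdim.le hA.1 (j + 1)] at hpos
  exact pos_of_mul_pos_right hpos (by positivity)

end Groth.Agent.CurveDeg
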