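import Groth.Agent.HilbPoly.Positive
import Groth.Agent.HilbPoly.DimVanish
import Groth.Agent.HilbPoly.AsympRR
import Groth.Agent.InvPow.GloballyGenerated

/-!
# Degrees of invertible modules on curves

`euler_nonneg_of_dim_zero`, `euler_pos_of_dim_zero`, `deg_eq_euler_cokernel`, `deg_tensorPow`.
-/

universe u

open CategoryTheory CategoryTheory.Limits AlgebraicGeometry TopologicalSpace Opposite

set_option backward.isDefEq.respectTransparency false
set_option maxHeartbeats 800000

namespace Groth.Agent.CurveDeg

open InvBasic ProjUniv Groth.Agent.InvPow Groth.Agent.HilbPoly Groth.Agent.QCohLib Groth.Agent.CohVanish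

variable {X : Scheme.{u}}

/-- A closed subset of dimension zero of a Noetherian scheme is finite and its points are closed. -/
theorem finite_and_closed_of_dim_le_zero [IsNoetherian X] {S : Set X} (hS : IsClosed S)
    (hd : topologicalKrullDim S ≤ 0) : S.Finite ∧ ∀ x ∈ S, IsClosed ({x} : Set X) := by
  haveI : QuasiSober S := hS.isClosedEmbedding_subtypeVal.quasiSober
  have hcl : ∀ z : S, ∀ y : S, y ⤳ z → y = z := fun z y hyz => by
    by_contra hne
    let p : IrreducibleCloseds S := ⟨closure {z}, isIrreducible_singleton.closure, isClosed_closure⟩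
    let q : IrreducibleCloseds S := ⟨closure {y}, isIrreducible_singleton.closure, isClosed_closure⟩
    have hlt : p < q := by
      refine lt_of_le_of_ne (specializes_iff_closure_subset.mp hyz) fun e => hne ?_
      exact (inseparable_iff_closure_eq.mpr (congrArg IrreducibleCloseds.carrier e)).eq.symm
    let l : LTSeries (IrreducibleCloseds S) := (RelSeries.singleton _ p).snoc q hlt
    have h1 := (Order.LTSeries.length_le_krullDim l).trans hd
    simp [l] at h1
    exact absurd h1 (by simp)
  refine ⟨?_, fun x hx => ?_⟩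
  · haveI : NoetherianSpace S := NoetherianSpace.set S
    rw [← Set.finite_coe_iff, ← Set.finite_univ_iff, ← sUnion_irreducibleComponents]
    refine NoetherianSpace.finite_irreducibleComponents.sUnion fun Z hZ => ?_
    obtain ⟨η, hη⟩ := QuasiSober.sober hZ.1 (isClosed_of_mem_irreducibleComponents Z hZ)
    refine Set.Finite.subset (Set.finite_singleton η) fun z hz => ?_
    exact Set.mem_singleton_iff.mpr (hcl z η (hη.specializes hz)).symm
  · refine closure_subset_iff_isClosed.mp fun y hy => ?_
    have hyS : y ∈ S := closure_minimal (Set.singleton_subset_iff.mpr hx) hS hy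
    have := hcl ⟨y, hyS⟩ ⟨x, hx⟩
      (Topology.IsInducing.subtypeVal.specializes_iff.mp (specializes_iff_mem_closure.mpr hy))
    exact (congrArg Subtype.val this).symm

/-- A section near a point of zero-dimensional support, extended by zero. -/
theorem exists_global_single [IsNoetherian X] {Q : X.Modules} (hQ : IsClosed (CohB1.support Q))
    (hd : topologicalKrullDim (CohB1.support Q) ≤ 0) {x : X} (hx : x ∈ CohB1.support Q) {U : X.Opens} (hxU : x ∈ U)
    (s : Γ(Q, U)) : ∃ (W : X.Opens) (hW : W ≤ U) (g : Γ(Q, ⊤)), x ∈ W ∧ res Q (le_top : W ≤ ⊤) g = res Q hW s ∧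
      ∀ z, z ≠ x → Q.presheaf.germ ⊤ z trivial g = 0 := by
  classical
  obtain ⟨hfin, hcl⟩ := finite_and_closed_of_dim_le_zero hQ hd
  let F : Set X := CohB1.support Q \ {x}
  have hF : IsClosed F := by
    have : F = ⋃ y ∈ F, {y} := (Set.biUnion_of_singleton F).symm
    rw [this]
    exact (hfin.subset Set.diff_subset).isClosed_biUnion fun y hy => hcl y hy.1
  let W : X.Opens := U ⊓ ⟨Fᶜ, hF.isOpen_compl⟩
  let m : Γ(Q, W) := res Q (inf_le_left : W ≤ U) s
  let C : X.Opens := ⟨({x} : Set X)ᶜ, (hcl x hx).isOpen_compl⟩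
  let V : ULift.{u} Bool → X.Opens := fun b => if b.down then W else C
  have hz : ∀ (Y : X.Opens) (hY : Y ≤ W), Y ≤ C → res Q hY m = 0 := fun Y hY hYC =>
    QCohLib.section_ext _ _ fun z hzY => by
      have hsub : Subsingleton (Q.presheaf.stalk z) := by
        by_contra hns
        exact (hY hzY).2 ⟨hns, hYC hzY⟩
      exact hsub.elim _ _
  have hxW : x ∈ W := ⟨hxU, fun h => h.2 rfl⟩
  obtain ⟨g, hg⟩ := InvPow.exists_glue_sections Q V
    (fun z => if hzx : z = x then ⟨⟨true⟩, by simpa [V, hzx] using hxW⟩ else ⟨⟨false⟩, by simpa [V, C] using hzx⟩)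
    (fun b => match b with | ⟨true⟩ => m | ⟨false⟩ => 0) fun i j => by
      rcases i with ⟨_ | _⟩ <;> rcases j with ⟨_ | _⟩
      · rfl
      · exact (map_zero _).trans (hz _ inf_le_right inf_le_left).symm
      · exact (hz _ inf_le_left inf_le_right).trans (map_zero _).symm
      · rfl
  refine ⟨W, inf_le_left, g, hxW, hg ⟨true⟩, fun z hz => ?_⟩
  have h0 : res Q (le_top : C ≤ ⊤) g = 0 := hg ⟨false⟩
  rw [← TopCat.Presheaf.germ_res_apply Q.presheaf (homOfLE (le_top : C ≤ ⊤)) z (show z ∈ C from hz) g]
  exact (congrArg _ h0).trans (map_zero _)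

/-- Near a point of zero-dimensional support every section comes from a global one. -/
theorem exists_global_eq_near [IsNoetherian X] {Q : X.Modules} (hQ : IsClosed (CohB1.support Q))
    (hd : topologicalKrullDim (CohB1.support Q) ≤ 0) {x : X} (hx : x ∈ CohB1.support Q) {U : X.Opens} (hxU : x ∈ U)
    (s : Γ(Q, U)) : ∃ (W : X.Opens) (hW : W ≤ U) (g : Γ(Q, ⊤)), x ∈ W ∧ res Q (le_top : W ≤ ⊤) g = res Q hW s := by
  obtain ⟨W, hW, g, hxW, hg, -⟩ := exists_global_single hQ hd hx hxU s
  exact ⟨W, hW, g, hxW, hg⟩

/-- A module with non-empty zero-dimensional support has a non-zero global section. -/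
theorem exists_section_ne_zero [IsNoetherian X] {Q : X.Modules} (hQ : IsClosed (CohB1.support Q))
    (hd : topologicalKrullDim (CohB1.support Q) ≤ 0) {x : X} (hx : x ∈ CohB1.support Q) :
    ∃ g : Γ(Q, ⊤), g ≠ 0 := by
  obtain ⟨q, hq⟩ : ∃ q : Q.presheaf.stalk x, q ≠ 0 := by
    by_contra hc
    push Not at hc
    exact hx ⟨fun a b => (hc a).trans (hc b).symm⟩
  obtain ⟨U, hxU, s, rfl⟩ := Q.presheaf.exists_germ_eq q
  obtain ⟨W, hW, g, hxW, h1⟩ := exists_global_eq_near hQ hd hx hxU s
  refine ⟨g, fun hg0 => hq ?_⟩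
  rw [hg0] at h1
  refine (TopCat.Presheaf.germ_res_apply Q.presheaf (homOfLE hW) x hxW s).symm.trans ?_
  show Q.presheaf.germ W x hxW (res Q hW s) = 0
  rw [← h1]
  exact (congrArg _ (map_zero _)).trans (map_zero _)

/-- A non-zero section of an invertible module on a reduced scheme generates somewhere. -/
theorem genOpen_nonempty_of_ne_zero [IsReduced X] {L : X.Modules} (hL : PicF.IsInvertible L) {t : Γ(L, ⊤)}
    (ht : t ≠ 0) : (genOpen hL t : Set X).Nonempty := by
  by_contra hne
  apply ht
  refine TopCat.Presheaf.section_ext ((SheafOfModules.toSheaf _).obj L) ⊤ t 0 fun x _ => ?_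
  obtain ⟨U, hx, ℓ, hℓ⟩ := exists_isBasis hL x
  obtain ⟨c, hc⟩ := exists_coef hℓ (gres L t U)
  have h0 : X.basicOpen c = ⊥ := by
    rw [← genOpen_inf_eq_basicOpen hL hℓ hc]
    exact eq_bot_iff.mpr fun y hy => hne ⟨y, hy.1⟩
  rw [basicOpen_eq_bot_iff] at h0
  rw [h0, zero_smul] at hc
  refine (TopCat.Presheaf.germ_res_apply L.presheaf (homOfLE (le_top : U ≤ ⊤)) x hx t).symm.trans ?_
  show L.presheaf.germ U x hx (gres L t U) = _
  rw [hc, map_zero, map_zero]

variable (k : Type u) [Field k] [X.Over (Spec (CommRingCat.of k))] [IsProper (X ↘ Spec (CommRingCat.of k))]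

/-- The Euler characteristic of a module with zero-dimensional support is non-negative. -/
theorem euler_nonneg_of_dim_zero {Q : X.Modules} (hQ : Coh.IsCoh Q)
    (hd : topologicalKrullDim (CohB1.support Q) ≤ 0) : 0 ≤ Curv2.euler k X Q := by
  rw [euler_eq_sum (N := 1) fun n hn => subsingleton_HH_of_dim k hQ (d := 0) (by exact_mod_cast hd) (by omega),
    Finset.sum_range_one]
  simp [hdim]

/-- The Euler characteristic of a module with non-empty zero-dimensional support is positive. -/
theorem euler_pos_of_dim_zero {Q : X.Modules} (hQ : Coh.IsCoh Q) (hd : topologicalKrullDim (CohB1.support Q) ≤ 0)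
    {x : X} (hx : x ∈ CohB1.support Q) : 0 < Curv2.euler k X Q := by
  have : CompactSpace X := QuasiCompact.compactSpace_of_compactSpace (X ↘ Spec (CommRingCat.of k))
  have : IsLocallyNoetherian X := LocallyOfFiniteType.isLocallyNoetherian (X ↘ Spec (CommRingCat.of k))
  have : IsNoetherian X := ⟨⟩
  obtain ⟨g, hg⟩ := exists_section_ne_zero (QCohLib.isClosed_support hQ.2) hd hx
  have := finite_HH (k := k) hQ 0
  have : Nontrivial (Coh.HH X Q 0) := by
    let E : Coh.HH X Q 0 ≃+ Γ(Q, ⊤) :=
      (CohVanish.hEquiv (X := CohVanish.sp X) (Coh.toAb Q) 0).trans (CohVanish.eu0 ⊤ _)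
    exact ⟨E.symm g, 0, fun h => hg (by rw [← E.apply_symm_apply g, h, map_zero])⟩
  rw [euler_eq_sum (N := 1) fun n hn => subsingleton_HH_of_dim k hQ (d := 0) (by exact_mod_cast hd) (by omega),
    Finset.sum_range_one]
  simp only [pow_zero, one_mul, hdim, Nat.cast_pos]
  exact Module.finrank_pos

/-- The degree is the length of the cokernel of a regular section. -/
theorem deg_eq_euler_cokernel {L : X.Modules} (hL : PicF.IsInvertible L) (t : Γ(L, ⊤))
    [Mono (mulSection (Coh.structureModule X) t)] :
    Curv2.deg k X L 1 = Curv2.euler k X (cokernel (mulSection (Coh.structureModule X) t)) := by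
  have : IsLocallyNoetherian X := LocallyOfFiniteType.isLocallyNoetherian (X ↘ Spec (CommRingCat.of k))
  let S := ShortComplex.mk (mulSection (Coh.structureModule X) t) (cokernel.π _) (cokernel.condition _)
  have hS : S.ShortExact := { exact := ShortComplex.exact_of_g_is_cokernel _ (cokernelIsCokernel _) }
  have hO : Coh.IsCoh (Coh.structureModule X) := isCoh_of_isInvertible (HilbPoly.isInvertible_structureModule X)
  have hT := isCoh_tensorMod hO hL
  have h := euler_additive (k := k) hS hO hT (isCoh_cokernel _ hO.1 hT)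
  obtain ⟨c⟩ := ProjTwist.nonempty_tensorMod_comm (Coh.structureModule X) L
  have he : Curv2.euler k X L = Curv2.euler k X (CohB1.tensorMod (Coh.structureModule X) L) :=
    (euler_congr (c ≪≫ SecTwist.unitorR _)).symm
  change Curv2.euler k X (CohB1.tensorMod (Coh.structureModule X) L) = _ + _ at h
  rw [Curv2.deg, he, h, Nat.cast_one, one_mul]
  exact add_sub_cancel_left _ _

/-- Multiplication by a generically non-vanishing section is injective on an integral scheme. -/
theorem mono_mulSection_of_isIntegral [IsIntegral X] {L : X.Modules} (hL : PicF.IsInvertible L) (t : Γ(L, ⊤))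
    (ht : (genOpen hL t : Set X).Nonempty) : Mono (mulSection (Coh.structureModule X) t) := by
  refine mono_mulSection _ hL t fun W => ?_
  by_cases hW : (W : Set X).Nonempty
  · obtain ⟨y, hy⟩ := nonempty_preirreducible_inter W.2 (genOpen hL t).2 hW ht
    haveI : Nonempty W := ⟨⟨_, hW.choose_spec⟩⟩
    haveI : Nonempty (W ⊓ genOpen hL t : X.Opens) := ⟨⟨y, hy⟩⟩
    exact map_injective_of_isIntegral X (homOfLE (inf_le_left : W ⊓ genOpen hL t ≤ W))
  · have : W = ⊥ := TopologicalSpace.Opens.ext (Set.not_nonempty_iff_eq_empty.mp hW)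
    subst this
    intro a b _
    exact Subsingleton.elim (α := Γ(X, (⊥ : X.Opens))) _ _

/-- Off a non-empty open subset an irreducible scheme of dimension at most one is zero-dimensional. -/
theorem dim_compl_le_zero [IrreducibleSpace X] (hdim : topologicalKrullDim X ≤ 1) {U : X.Opens}
    (hU : (U : Set X).Nonempty) {S : Set X} (hS : IsClosed S) (hd : Disjoint S (U : Set X)) :
    topologicalKrullDim S ≤ 0 := by
  have hne : S ≠ Set.univ := fun h => hU.ne_empty (Set.disjoint_univ.mp (h ▸ hd).symm)
  refine iSup_le fun l => ?_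
  by_contra hl
  have hlen : 1 ≤ l.length := by
    by_contra hc
    apply hl
    have : l.length = 0 := by omega
    simp [this]
  let g := IrreducibleCloseds.map (Subtype.val : S → X) continuous_subtype_val
  have hg : StrictMono g := IrreducibleCloseds.map_strictMono_of_isInducing Topology.IsInducing.subtypeVal
  let T : IrreducibleCloseds X := ⟨Set.univ, IrreducibleSpace.isIrreducible_univ X, isClosed_univ⟩
  let L' := l.map g hg
  have hlast : L'.last < T := by
    refine lt_of_le_of_ne (fun _ _ => trivial) fun e => hne (Set.eq_univ_of_univ_subset ?_)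
    have h1 : ((L'.last : IrreducibleCloseds X) : Set X) ⊆ S :=
      closure_minimal (by rintro _ ⟨z, -, rfl⟩; exact z.2) hS
    exact fun z _ => h1 (e ▸ (trivial : z ∈ (Set.univ : Set X)))
  have h2 := (Order.LTSeries.length_le_krullDim (L'.snoc T hlast)).trans hdim
  simp only [RelSeries.snoc_length, L', LTSeries.map_length, Nat.cast_add, Nat.cast_one] at h2
  have h3 : (l.length + 1 : ℕ) ≤ 1 := by exact_mod_cast h2
  omega

variable [IsIntegral X]

/-- A generically non-vanishing section bounds the degree below. -/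
theorem deg_nonneg_of_section (hdim : topologicalKrullDim X ≤ 1) {L : X.Modules} (hL : PicF.IsInvertible L)
    (t : Γ(L, ⊤)) (ht : (genOpen hL t : Set X).Nonempty) : 0 ≤ Curv2.deg k X L 1 := by
  have : IsLocallyNoetherian X := LocallyOfFiniteType.isLocallyNoetherian (X ↘ Spec (CommRingCat.of k))
  haveI := mono_mulSection_of_isIntegral hL t ht
  rw [deg_eq_euler_cokernel k hL t]
  have hO : Coh.IsCoh (Coh.structureModule X) := isCoh_of_isInvertible (HilbPoly.isInvertible_structureModule X)
  have hQ := isCoh_cokernel (mulSection (Coh.structureModule X) t) hO.1 (isCoh_tensorMod hO hL)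
  exact euler_nonneg_of_dim_zero k hQ (dim_compl_le_zero hdim ht (QCohLib.isClosed_support hQ.2)
    (disjoint_support_cokernel_mulSection _ hL t))

/-- A non-zero section with a zero makes the degree positive. -/
theorem deg_pos_of_section (hdim : topologicalKrullDim X ≤ 1) {L : X.Modules} (hL : PicF.IsInvertible L)
    (t : Γ(L, ⊤)) (ht : (genOpen hL t : Set X).Nonempty) {x : X} (hx : x ∉ genOpen hL t) :
    0 < Curv2.deg k X L 1 := by
  have : IsLocallyNoetherian X := LocallyOfFiniteType.isLocallyNoetherian (X ↘ Spec (CommRingCat.of k))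
  haveI := mono_mulSection_of_isIntegral hL t ht
  rw [deg_eq_euler_cokernel k hL t]
  have hO : Coh.IsCoh (Coh.structureModule X) := isCoh_of_isInvertible (HilbPoly.isInvertible_structureModule X)
  have hQ := isCoh_cokernel (mulSection (Coh.structureModule X) t) hO.1 (isCoh_tensorMod hO hL)
  refine euler_pos_of_dim_zero k hQ (dim_compl_le_zero hdim ht (QCohLib.isClosed_support hQ.2)
    (disjoint_support_cokernel_mulSection _ hL t)) (x := x) ?_
  exact mem_support_cokernel_mulSection hO hL t (by rw [support_structureModule]; trivial) hx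

omit [IsIntegral X] in
/-- On a scheme of dimension at most one the degree of an invertible module is additive in powers. -/
theorem deg_tensorPow (hdim : topologicalKrullDim X ≤ 1) {L : X.Modules} (hL : PicF.IsInvertible L) (n : ℕ) :
    Curv2.deg k X (CohB1.tensorPow L n) 1 = n * Curv2.deg k X L 1 := by
  have : IsLocallyNoetherian X := LocallyOfFiniteType.isLocallyNoetherian (X ↘ Spec (CommRingCat.of k))
  have hO : Coh.IsCoh (Coh.structureModule X) := isCoh_of_isInvertible (HilbPoly.isInvertible_structureModule X)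
  have hd : topologicalKrullDim (CohB1.support (Coh.structureModule X)) ≤ ((1 : ℕ) : WithBot ℕ∞) :=
    (topologicalKrullDim_subspace_le X _).trans (by exact_mod_cast hdim)
  obtain ⟨P, hP, hPe⟩ := exists_hilbPoly' (k := k) hL hO hd
  have hval : ∀ m : ℕ, (Curv2.euler k X (CohB1.tensorPow L m) : ℚ) = P.eval (m : ℚ) := fun m => by
    rw [← hPe m, ShStab.twist]
    obtain ⟨c⟩ := ProjTwist.nonempty_tensorMod_comm (Coh.structureModule X) (CohB1.tensorPow L m)
    rw [euler_congr (c ≪≫ SecTwist.unitorR _)]
  have hlin : ∀ m : ℕ, P.eval (m : ℚ) = P.coeff 0 + P.coeff 1 * m := fun m => by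
    rw [Polynomial.eval_eq_sum_range' (n := 2) (Nat.lt_succ_of_le hP), Finset.sum_range_succ, Finset.sum_range_one,
      pow_zero, mul_one, pow_one]
  have h0 : (Curv2.euler k X (Coh.structureModule X) : ℚ) = P.coeff 0 := by
    rw [show Coh.structureModule X = CohB1.tensorPow L 0 from rfl, hval, hlin]
    simp
  have h1 : (Curv2.euler k X L : ℚ) = P.coeff 0 + P.coeff 1 := by
    obtain ⟨e⟩ := nonempty_pow_one_iso hL
    rw [← euler_congr e, hval, hlin]
    simp
  have : (Curv2.deg k X (CohB1.tensorPow L n) 1 : ℚ) = (n : ℚ) * (Curv2.deg k X L 1 : ℚ) := by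
    simp only [Curv2.deg, Nat.cast_one, one_mul, Int.cast_sub, hval, hlin, h0, h1]
    ring
  exact_mod_cast this

end Groth.Agent.CurveDeg
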